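import Mathlib

/-!
# Permutations of eleven points around a five-cycle

Facts for the centraliser of a lift of a five-cycle in a group of Lyons type.

Owner: helper49.
-/

set_option autoImplicit false

namespace Cfsg.Agent.Lib.LyFive49

open Equiv Equiv.Perm

/-- The five-cycle `(0 1 2 3 4)`. -/
def c5 : Perm (Fin 11) := swap 0 4 * swap 0 3 * swap 0 2 * swap 0 1

/-- The five-cycle `(5 6 7 8 9)`. -/
def d5 : Perm (Fin 11) := swap 5 9 * swap 5 8 * swap 5 7 * swap 5 6

/-- `(5 6)(7 8)`. -/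
def io1 : Perm (Fin 11) := swap 5 6 * swap 7 8

/-- `(5 7)(6 8)`. -/
def io2 : Perm (Fin 11) := swap 5 7 * swap 6 8

/-- `(5 8)(6 7)`. -/
def io3 : Perm (Fin 11) := swap 5 8 * swap 6 7

/-- `(1 4)(2 3)`. -/
def inv5 : Perm (Fin 11) := swap 1 4 * swap 2 3

/-- The inverting involution `(1 4)(2 3)(5 6)(7 8)`. -/
def ptau : Perm (Fin 11) := inv5 * io1

/-- The three-cycle `(5 6 7)`. -/
def p3 : Perm (Fin 11) := swap 5 7 * swap 5 6

theorem c5_table : ∀ a : Fin 11, c5 a = ![1, 2, 3, 4, 0, 5, 6, 7, 8, 9, 10] a := by decide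

theorem d5_table : ∀ a : Fin 11, d5 a = ![0, 1, 2, 3, 4, 6, 7, 8, 9, 5, 10] a := by decide

theorem c5_pow_five : c5 ^ 5 = 1 := by decide

theorem d5_pow_five : d5 ^ 5 = 1 := by decide

theorem c5_ne : c5 ≠ 1 := by decide

theorem sign_perms : sign c5 = 1 ∧ sign d5 = 1 ∧ sign io1 = 1 ∧ sign io2 = 1 ∧ sign inv5 = 1 ∧
    sign ptau = 1 ∧ sign p3 = 1 := by decide

theorem io_facts : io1 * io1 = 1 ∧ io2 * io2 = 1 ∧ io1 * io2 = io2 * io1 ∧ io1 * io2 = io3 ∧
    io1 * c5 = c5 * io1 ∧ io2 * c5 = c5 * io2 ∧ io3 * c5 = c5 * io3 ∧ p3 * c5 = c5 * p3 ∧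
    p3 ^ 3 = 1 ∧ p3 ≠ 1 := by decide

/-- A permutation commuting with `c5` is a power of `c5` times one fixing its five points. -/
theorem split_c5 {m : Perm (Fin 11)} (h : m * c5 = c5 * m) : ∃ i : ℕ, ∃ m' : Perm (Fin 11),
    m = c5 ^ i * m' ∧ m' * c5 = c5 * m' ∧ (∀ a : Fin 11, a < 5 → m' a = a) ∧
      ∀ a : Fin 11, ¬ a < 5 → ¬ m' a < 5 := by
  have key : ∀ a, m (c5 a) = c5 (m a) := fun a => by
    simpa [Perm.mul_apply] using congrArg (fun p : Perm (Fin 11) => p a) h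
  have h0 : c5 (m 0) ≠ m 0 := by
    rw [← key]; exact fun e => absurd (m.injective e) (by decide)
  obtain ⟨i, hi⟩ : ∃ i : Fin 5, (c5 ^ (i : ℕ)) 0 = m 0 :=
    (show ∀ a : Fin 11, c5 a ≠ a → ∃ i : Fin 5, (c5 ^ (i : ℕ)) 0 = a by decide) _ h0
  set m' := (c5 ^ (i : ℕ))⁻¹ * m with hm'
  have hc : m' * c5 = c5 * m' :=
    (((Commute.refl c5).pow_left (i : ℕ)).inv_left.mul_left h).eq
  have key' : ∀ a, m' (c5 a) = c5 (m' a) := fun a => by
    simpa [Perm.mul_apply] using congrArg (fun p : Perm (Fin 11) => p a) hc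
  have h0' : m' 0 = 0 := by rw [hm', Perm.mul_apply, Perm.inv_eq_iff_eq, hi]
  have h1 : m' 1 = 1 := by
    calc m' 1 = m' (c5 0) := rfl
      _ = c5 (m' 0) := key' 0
      _ = 1 := by rw [h0']; rfl
  have h2 : m' 2 = 2 := by
    calc m' 2 = m' (c5 1) := rfl
      _ = c5 (m' 1) := key' 1
      _ = 2 := by rw [h1]; rfl
  have h3 : m' 3 = 3 := by
    calc m' 3 = m' (c5 2) := rfl
      _ = c5 (m' 2) := key' 2
      _ = 3 := by rw [h2]; rfl
  have h4 : m' 4 = 4 := by
    calc m' 4 = m' (c5 3) := rfl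
      _ = c5 (m' 3) := key' 3
      _ = 4 := by rw [h3]; rfl
  have hfix : ∀ a : Fin 11, a < 5 → m' a = a := by
    intro a ha
    rcases (show ∀ a : Fin 11, a < 5 → a = 0 ∨ a = 1 ∨ a = 2 ∨ a = 3 ∨ a = 4 by decide) a ha with
      rfl | rfl | rfl | rfl | rfl
    exacts [h0', h1, h2, h3, h4]
  exact ⟨i, m', by rw [hm', mul_inv_cancel_left], hc, hfix,
    fun a ha hlt => ha (by have e := m'.injective (hfix _ hlt); rwa [e] at hlt)⟩

theorem io_table : ∀ a : Fin 11, io1 a = ![0, 1, 2, 3, 4, 6, 5, 8, 7, 9, 10] a ∧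
    io2 a = ![0, 1, 2, 3, 4, 7, 8, 5, 6, 9, 10] a ∧ io3 a = ![0, 1, 2, 3, 4, 8, 7, 6, 5, 9, 10] a ∧
    p3 a = ![0, 1, 2, 3, 4, 6, 7, 5, 8, 9, 10] a := by decide

/-- An element of odd order with a power `2 ^ k` trivial is trivial. -/
theorem eq_one_of_pow {M : Type*} [Group M] {m : M} {k l : ℕ} (hk : m ^ k = 1) (hl : m ^ l = 1)
    (hco : Nat.Coprime k l) : m = 1 := by
  have := pow_gcd_eq_one.mpr ⟨hk, hl⟩
  rwa [hco.gcd_eq_one, pow_one] at this

theorem c5_pow_comm (i : ℕ) {m : Perm (Fin 11)} (h : m * c5 = c5 * m) : Commute (c5 ^ i) m :=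
  ((show Commute m c5 from h).pow_right i).symm

/-- A function fixing `0, …, 4` given by its values at `5, …, 10`. -/
def tb (a b c d e g : Fin 11) : Fin 11 → Fin 11 := ![0, 1, 2, 3, 4, a, b, c, d, e, g]

/-- A set of four points. -/
abbrev four : List (Fin 11) := [5, 6, 7, 8]

/-- The tables of the three involutions. -/
def ioTb : List (Fin 11 → Fin 11) :=
  [![0, 1, 2, 3, 4, 6, 5, 8, 7, 9, 10], ![0, 1, 2, 3, 4, 7, 8, 5, 6, 9, 10],
   ![0, 1, 2, 3, 4, 8, 7, 6, 5, 9, 10]]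

/-- The table of the three-cycle. -/
def p3Tb : Fin 11 → Fin 11 := ![0, 1, 2, 3, 4, 6, 7, 5, 8, 9, 10]

theorem tb_io_chk : (four.all fun a => four.all fun b => four.all fun c => four.all fun d =>
    decide (a = b) || decide (a = c) || decide (a = d) || decide (b = c) || decide (b = d) ||
    decide (c = d) ||
      [(9 : Fin 11), 10].all fun e => [(9 : Fin 11), 10].all fun g => decide (e = g) ||
        ioTb.all fun p =>
          !(four.all fun x => decide (tb a b c d e g (p x) = p (tb a b c d e g x))) ||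
            (List.finRange 11).all fun x => decide
              (tb a b c d e g (tb a b c d e g (tb a b c d e g (tb a b c d e g x))) = x)) = true := by
  decide +kernel

theorem tb_io {a b c d e g : Fin 11} (ha : a ∈ four) (hb : b ∈ four) (hc : c ∈ four) (hd : d ∈ four)
    (he : e ∈ [(9 : Fin 11), 10]) (hg : g ∈ [(9 : Fin 11), 10]) (hab : a ≠ b) (hac : a ≠ c)
    (had : a ≠ d) (hbc : b ≠ c) (hbd : b ≠ d) (hcd : c ≠ d) (heg : e ≠ g) {p : Fin 11 → Fin 11}
    (hp : p ∈ ioTb) (h : ∀ x ∈ four, tb a b c d e g (p x) = p (tb a b c d e g x)) (x : Fin 11) :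
    tb a b c d e g (tb a b c d e g (tb a b c d e g (tb a b c d e g x))) = x := by
  have h0 := List.all_eq_true.mp (List.all_eq_true.mp (List.all_eq_true.mp
    (List.all_eq_true.mp tb_io_chk a ha) b hb) c hc) d hd
  simp only [hab, hac, had, hbc, hbd, hcd, decide_false, Bool.false_or] at h0
  have h1 := List.all_eq_true.mp (List.all_eq_true.mp h0 e he) g hg
  simp only [heg, decide_false, Bool.false_or] at h1
  have h2 := List.all_eq_true.mp h1 p hp
  rw [List.all_eq_true.mpr fun y hy => decide_eq_true (h y hy)] at h2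
  simpa using List.all_eq_true.mp h2 x (List.mem_finRange x)

theorem tb_p3_chk : ([(5 : Fin 11), 6, 7].all fun a => [(8 : Fin 11), 9, 10].all fun d =>
    [(8 : Fin 11), 9, 10].all fun e => [(8 : Fin 11), 9, 10].all fun g =>
      decide (d = e) || decide (d = g) || decide (e = g) ||
        (List.finRange 11).all fun x =>
          let t := tb a (p3Tb a) (p3Tb (p3Tb a)) d e g
          decide (t (t (t (t (t (t x))))) = x)) = true := by
  decide +kernel

theorem tb_p3 {a d e g : Fin 11} (ha : a ∈ [(5 : Fin 11), 6, 7]) (hd : d ∈ [(8 : Fin 11), 9, 10])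
    (he : e ∈ [(8 : Fin 11), 9, 10]) (hg : g ∈ [(8 : Fin 11), 9, 10]) (hde : d ≠ e) (hdg : d ≠ g)
    (heg : e ≠ g) (x : Fin 11) :
    let t := tb a (p3Tb a) (p3Tb (p3Tb a)) d e g
    t (t (t (t (t (t x))))) = x := by
  have h0 := List.all_eq_true.mp (List.all_eq_true.mp (List.all_eq_true.mp
    (List.all_eq_true.mp tb_p3_chk a ha) d hd) e he) g hg
  simp only [hde, hdg, heg, decide_false, Bool.false_or] at h0
  simpa using List.all_eq_true.mp h0 x (List.mem_finRange x)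

theorem eq_tb {m : Perm (Fin 11)} (hfix : ∀ a : Fin 11, a < 5 → m a = a) :
    ∀ a, m a = tb (m 5) (m 6) (m 7) (m 8) (m 9) (m 10) a := by
  intro a
  fin_cases a <;> first | rfl | exact hfix _ (by decide)

/-- A permutation in `C(c5) ∩ C(io)` of odd order is a power of `c5`. -/
theorem odd_cent_io {p : Perm (Fin 11)} (hp : p = io1 ∨ p = io2 ∨ p = io3) {m : Perm (Fin 11)}
    (hc : m * c5 = c5 * m) (hm : m * p = p * m) (ho : Odd (orderOf m)) : ∃ i : ℕ, m = c5 ^ i := by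
  obtain ⟨i, m', rfl, hc', hfix, hout⟩ := split_c5 hc
  have hcp : c5 * p = p * c5 := by rcases hp with rfl | rfl | rfl <;> decide
  have hm' : m' * p = p * m' := by
    have e : Commute (c5 ^ i) p := (show Commute c5 p from hcp).pow_left i
    have h2 : c5 ^ i * (m' * p) = c5 ^ i * (p * m') := by
      rw [← mul_assoc, hm, ← mul_assoc p, ← e.eq, mul_assoc]
    exact mul_left_cancel h2
  have key : ∀ a, m' (p a) = p (m' a) := fun a => by
    simpa [Perm.mul_apply] using congrArg (fun q : Perm (Fin 11) => q a) hm'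
  have hfour : m' ^ 4 = 1 := by
    refine Equiv.ext fun a => ?_
    have hmov : ∀ a : Fin 11, p a = a → p (m' a) = m' a := fun a ha => by rw [← key, ha]
    have hnm : ∀ a : Fin 11, p a ≠ a → p (m' a) ≠ m' a := fun a ha e => ha (m'.injective (by rw [key, e]))
    have hset : ∀ b : Fin 11, (¬ b < 5 → p b = b → b = 9 ∨ b = 10) ∧
        (p b ≠ b → b = 5 ∨ b = 6 ∨ b = 7 ∨ b = 8) := by rcases hp with rfl | rfl | rfl <;> decide
    have h9 := (hset (m' 9)).1 (hout 9 (by decide))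
      (hmov 9 (by rcases hp with rfl | rfl | rfl <;> decide))
    have h10 := (hset (m' 10)).1 (hout 10 (by decide))
      (hmov 10 (by rcases hp with rfl | rfl | rfl <;> decide))
    have hpn : ∀ b : Fin 11, b = 5 ∨ b = 6 ∨ b = 7 ∨ b = 8 → p b ≠ b := by
      rcases hp with rfl | rfl | rfl <;> decide
    have h5 := (hset (m' 5)).2 (hnm 5 (hpn 5 (by simp)))
    have h6 := (hset (m' 6)).2 (hnm 6 (hpn 6 (by simp)))
    have h7 := (hset (m' 7)).2 (hnm 7 (hpn 7 (by simp)))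
    have h8 := (hset (m' 8)).2 (hnm 8 (hpn 8 (by simp)))
    have inj : ∀ {a b : Fin 11}, a ≠ b → m' a ≠ m' b := fun h e => h (m'.injective e)
    have htb := eq_tb hfix
    have mem4 : ∀ {b : Fin 11}, b = 5 ∨ b = 6 ∨ b = 7 ∨ b = 8 → b ∈ four := fun h => by
      simpa [four] using h
    obtain ⟨q, hq, hpq⟩ : ∃ q ∈ ioTb, ∀ x, q x = p x := by
      rcases hp with rfl | rfl | rfl
      · exact ⟨_, by simp [ioTb], fun x => ((io_table x).1).symm⟩
      · exact ⟨_, by simp [ioTb], fun x => ((io_table x).2.1).symm⟩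
      · exact ⟨_, by simp [ioTb], fun x => ((io_table x).2.2.1).symm⟩
    have h := tb_io (mem4 h5) (mem4 h6) (mem4 h7) (mem4 h8) (e := m' 9) (g := m' 10)
      (by simpa using h9) (by simpa using h10) (inj (by decide)) (inj (by decide)) (inj (by decide))
      (inj (by decide)) (inj (by decide)) (inj (by decide)) (inj (by decide)) hq
      (fun x _ => by rw [hpq, hpq, ← htb, ← htb, key]) a
    simp only [← htb] at h
    simpa [show (4 : ℕ) = 1 + 1 + 1 + 1 from rfl, pow_succ] using h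
  refine ⟨i, ?_⟩
  obtain ⟨k, hk⟩ := ho
  have hm1 : (c5 ^ i * m') ^ (2 * k + 1) = 1 := by rw [← hk, pow_orderOf_eq_one]
  have hcm := c5_pow_comm i hc'
  have hk5 : m' ^ ((2 * k + 1) * 5) = 1 := by
    have := congrArg (· ^ 5) hm1
    simp only [one_pow] at this
    rw [← pow_mul, hcm.mul_pow, ← pow_mul, mul_comm i, mul_comm (2 * k + 1) 5, mul_assoc, pow_mul,
      c5_pow_five, one_pow, one_mul] at this
    rwa [mul_comm]
  rw [eq_one_of_pow hk5 hfour ?_, mul_one]
  rw [show (4 : ℕ) = 2 ^ 2 from rfl]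
  exact Nat.Coprime.pow_right 2 (Nat.coprime_two_right.mpr
    (Nat.odd_mul.mpr ⟨⟨k, rfl⟩, by decide⟩))

/-- A permutation of five-power order in `C(c5) ∩ C(p3)` is a power of `c5`. -/
theorem five_cent_p3 {m : Perm (Fin 11)} (hc : m * c5 = c5 * m) (hm : m * p3 = p3 * m) {k : ℕ}
    (ho : m ^ 5 ^ k = 1) : ∃ i : ℕ, m = c5 ^ i := by
  obtain ⟨i, m', rfl, hc', hfix, hout⟩ := split_c5 hc
  have hm' : m' * p3 = p3 * m' := by
    have e : Commute (c5 ^ i) p3 := (show Commute c5 p3 from io_facts.2.2.2.2.2.2.2.1.symm).pow_left i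
    have h2 : c5 ^ i * (m' * p3) = c5 ^ i * (p3 * m') := by
      rw [← mul_assoc, hm, ← mul_assoc _ (c5 ^ i) m', ← e.eq, mul_assoc]
    exact mul_left_cancel h2
  have key : ∀ a, m' (p3 a) = p3 (m' a) := fun a => by
    simpa [Perm.mul_apply] using congrArg (fun q : Perm (Fin 11) => q a) hm'
  have hsix : m' ^ 6 = 1 := by
    refine Equiv.ext fun a => ?_
    have hmov : ∀ a : Fin 11, p3 a = a → p3 (m' a) = m' a := fun a ha => by rw [← key, ha]
    have hnm : ∀ a : Fin 11, p3 a ≠ a → p3 (m' a) ≠ m' a := fun a ha e => ha (m'.injective (by rw [key, e]))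
    have hset : ∀ b : Fin 11, (¬ b < 5 → p3 b = b → b = 8 ∨ b = 9 ∨ b = 10) ∧
        (p3 b ≠ b → b = 5 ∨ b = 6 ∨ b = 7) := by decide
    have h8 := (hset (m' 8)).1 (hout 8 (by decide)) (hmov 8 (by decide))
    have h9 := (hset (m' 9)).1 (hout 9 (by decide)) (hmov 9 (by decide))
    have h10 := (hset (m' 10)).1 (hout 10 (by decide)) (hmov 10 (by decide))
    have h5 := (hset (m' 5)).2 (hnm 5 (by decide))
    have h6 := (hset (m' 6)).2 (hnm 6 (by decide))
    have h7 := (hset (m' 7)).2 (hnm 7 (by decide))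
    have inj : ∀ {a b : Fin 11}, a ≠ b → m' a ≠ m' b := fun h e => h (m'.injective e)
    have htb := eq_tb hfix
    have hpq : ∀ x, p3Tb x = p3 x := fun x => ((io_table x).2.2.2).symm
    have h := tb_p3 (a := m' 5) (by simpa using h5) (d := m' 8) (e := m' 9) (g := m' 10)
      (by simpa using h8) (by simpa using h9) (by simpa using h10)
      (inj (by decide)) (inj (by decide)) (inj (by decide)) a
    simp only [hpq, ← key] at h
    rw [show p3 5 = 6 from by decide, show p3 6 = 7 from by decide] at h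
    simp only [← htb] at h
    simpa [show (6 : ℕ) = 1 + 1 + 1 + 1 + 1 + 1 from rfl, pow_succ] using h
  refine ⟨i, ?_⟩
  have hcm := c5_pow_comm i hc'
  have hk5 : m' ^ 5 ^ (k + 1) = 1 := by
    have := congrArg (· ^ 5) ho
    simp only [one_pow] at this
    rw [← pow_mul, ← pow_succ, hcm.mul_pow, ← pow_mul, mul_comm i, pow_mul,
      show c5 ^ 5 ^ (k + 1) = 1 by rw [pow_succ', pow_mul, c5_pow_five, one_pow], one_pow, one_mul] at this
    exact this
  rw [eq_one_of_pow hk5 hsix (Nat.Coprime.pow_left _ (by decide)), mul_one]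

/-- The centraliser of the two five-cycles. -/
theorem cent_two_five {m : Perm (Fin 11)} (hc : m * c5 = c5 * m) (hd : m * d5 = d5 * m) :
    ∃ i j : ℕ, m = c5 ^ i * d5 ^ j := by
  obtain ⟨i, m', rfl, hc', hfix, hout⟩ := split_c5 hc
  have hd' : m' * d5 = d5 * m' := by
    have e : Commute (c5 ^ i) d5 := (show Commute c5 d5 by unfold Commute SemiconjBy; decide).pow_left i
    have h2 : c5 ^ i * (m' * d5) = c5 ^ i * (d5 * m') := by
      rw [← mul_assoc, hd, ← mul_assoc _ (c5 ^ i) m', ← e.eq, mul_assoc]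
    exact mul_left_cancel h2
  have key : ∀ a, m' (d5 a) = d5 (m' a) := fun a => by
    simpa [Perm.mul_apply] using congrArg (fun q : Perm (Fin 11) => q a) hd'
  have h5 : d5 (m' 5) ≠ m' 5 := fun e => absurd (m'.injective ((key 5).trans e)) (by decide)
  obtain ⟨j, hj⟩ : ∃ j : Fin 5, (d5 ^ (j : ℕ)) 5 = m' 5 :=
    (show ∀ a : Fin 11, d5 a ≠ a → ∃ j : Fin 5, (d5 ^ (j : ℕ)) 5 = a by decide) _ h5
  have h10 : m' 10 = 10 := by
    have h1 : d5 (m' 10) = m' 10 := by rw [← key]; rfl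
    exact (show ∀ b : Fin 11, d5 b = b → ¬ b < 5 → b = 10 by decide) _ h1 (hout 10 (by decide))
  have hjc : ∀ a, (d5 ^ (j : ℕ)) (d5 a) = d5 ((d5 ^ (j : ℕ)) a) := fun a => by
    rw [← Perm.mul_apply, ← Perm.mul_apply, ← pow_succ, pow_succ']
  refine ⟨i, j, ?_⟩
  rw [show m' = d5 ^ (j : ℕ) from ?_]
  have step : ∀ a, m' a = (d5 ^ (j : ℕ)) a → m' (d5 a) = (d5 ^ (j : ℕ)) (d5 a) := fun a h => by
    rw [key, hjc, h]
  refine Equiv.ext fun a => ?_
  by_cases ha : a < 5
  · rw [hfix a ha]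
    exact ((show ∀ (j : Fin 5) (a : Fin 11), a < 5 → (d5 ^ (j : ℕ)) a = a by decide) j a ha).symm
  rcases (show ∀ a : Fin 11, ¬ a < 5 → a = 5 ∨ a = 6 ∨ a = 7 ∨ a = 8 ∨ a = 9 ∨ a = 10 by decide) a ha
    with rfl | rfl | rfl | rfl | rfl | rfl
  · exact hj.symm
  · exact step 5 hj.symm
  · exact step 6 (step 5 hj.symm)
  · exact step 7 (step 6 (step 5 hj.symm))
  · exact step 8 (step 7 (step 6 (step 5 hj.symm)))
  · rw [h10]
    exact ((show ∀ j : Fin 5, (d5 ^ (j : ℕ)) 10 = 10 by decide) j).symm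

end Cfsg.Agent.Lib.LyFive49
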